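import Cfsg.Agent.Lib.FusionExamples.SmallElements
import Cfsg.Agent.Lib.NormalPComplement.Frobenius

/-!
Normal `p`-complements from conditions on the elements of order `p` (or `4`).
-/

set_option autoImplicit false

namespace CfsgLib.PushUp

open Subgroup

variable {G : Type*} [Group G] [Finite G] {p : ℕ} [Fact p.Prime]

/-- A `p'`-element normalising the `p`-subgroup `Q` centralises it, if the small elements of `Q` lie in
a chain of subgroups along which it moves them downwards. -/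
theorem mem_centralizer_of_chain {Q : Subgroup G} (hQ : IsPGroup p Q) {g : G}
    (hg : g ∈ normalizer (Q : Set G)) (hgp : (orderOf g).Coprime p) (F : ℕ → Subgroup G) (n : ℕ)
    (h0 : F 0 = ⊥)
    (htop : ∀ a ∈ Q, CfsgLib.FusionExamples.SmallElt p a → a ∈ F n)
    (hstep : ∀ i : ℕ, ∀ a ∈ Q, CfsgLib.FusionExamples.SmallElt p a → a ∈ F (i + 1) →
      a⁻¹ * (g * a * g⁻¹) ∈ F i) :
    g ∈ centralizer (Q : Set G) := by
  obtain ⟨D, hDc, hDs, hD⟩ := CfsgLib.FusionExamples.exists_small_detecting ↥Q hQ (p := p)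
  set φ := Q.normalizerMonoidHom ⟨g, hg⟩ with hφ
  have hφval : ∀ x : Q, ((φ x : Q) : G) = g * x * g⁻¹ := fun x => rfl
  have hDφ : ∀ x ∈ D, φ x ∈ D := by
    intro x hx
    have h1 := hDc.fixed φ
    rw [← h1] at hx
    exact hx
  have hsmall : ∀ x ∈ D, CfsgLib.FusionExamples.SmallElt p (x : G) := fun x hx =>
    (CfsgLib.FusionExamples.smallElt_map_iff Q.subtype Q.subtype_injective).mpr (hDs x hx)
  have hφm : φ ^ orderOf g = 1 := by
    rw [hφ, ← map_pow, show ((⟨g, hg⟩ : normalizer (Q : Set G)) ^ orderOf g) = 1 from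
      Subtype.ext (by simp [pow_orderOf_eq_one]), map_one]
  have key : ∀ i, ∀ x ∈ D, (x : G) ∈ F i → φ x = x := by
    intro i
    induction i with
    | zero =>
      intro x _ hx
      rw [h0, Subgroup.mem_bot] at hx
      have : x = 1 := Subtype.ext hx
      rw [this, map_one]
    | succ i ih =>
      intro x hxD hx
      refine CfsgLib.FusionExamples.eq_of_stable hQ φ hφm hgp (ih _ ?_ ?_)
      · exact mul_mem (inv_mem hxD) (hDφ x hxD)
      · have := hstep i x x.2 (hsmall x hxD) hx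
        simpa [hφval] using this
  have h1 : φ = 1 := hD φ (orderOf g) hφm hgp
    (fun x hx => key n x hx (htop x x.2 (hsmall x hx)))
  refine Subgroup.mem_centralizer_iff.mpr fun x hx => ?_
  have h2 := congrArg (fun e : MulAut ↥Q => ((e ⟨x, hx⟩ : Q) : G)) h1
  simp only [hφval, MulAut.one_apply] at h2
  exact (mul_inv_eq_iff_eq_mul.mp h2).symm

theorem conj_smallElt {a : G} (g : G) (h : CfsgLib.FusionExamples.SmallElt p a) :
    CfsgLib.FusionExamples.SmallElt p (g * a * g⁻¹) :=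
  (CfsgLib.FusionExamples.smallElt_map_iff (MulAut.conj g).toMonoidHom (MulAut.conj g).injective).mpr h

/-- A Sylow subgroup controlling the fusion of its small elements gives a normal `p`-complement. -/
theorem frobeniusCondition_of_small_fusion (P : Sylow p G)
    (h : ∀ a ∈ (P : Subgroup G), CfsgLib.FusionExamples.SmallElt p a → ∀ g : G,
      g * a * g⁻¹ ∈ (P : Subgroup G) → ∃ x ∈ (P : Subgroup G), g * a * g⁻¹ = x * a * x⁻¹) :
    CfsgLib.NormalPComplement.FrobeniusCondition p G := by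
  intro Q hQ g hg hgp
  obtain ⟨R, hR⟩ := hQ.exists_le_sylow
  obtain ⟨t, ht⟩ := MulAction.exists_smul_eq G R P
  have hmove : ∀ q ∈ Q, t * q * t⁻¹ ∈ (P : Subgroup G) := by
    intro q hq
    rw [← ht, Sylow.coe_subgroup_smul]
    exact Subgroup.smul_mem_pointwise_smul _ (MulAut.conj t) _ (hR hq)
  have : Group.IsNilpotent ↥(P : Subgroup G) := IsPGroup.isNilpotent P.2
  obtain ⟨n, hn⟩ := Group.IsNilpotent.nilpotent (G := ↥(P : Subgroup G))
  refine mem_centralizer_of_chain hQ hg hgp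
    (fun i => ((Subgroup.upperCentralSeries ↥(P : Subgroup G) i).map (P : Subgroup G).subtype).comap
      (MulAut.conj t).toMonoidHom) n ?_ ?_ ?_
  · rw [eq_bot_iff]
    intro x hx
    obtain ⟨y, hy, hyx⟩ := hx
    rw [Subgroup.upperCentralSeries_zero, SetLike.mem_coe, Subgroup.mem_bot] at hy
    subst hy
    have h1 : t * x * t⁻¹ = 1 := hyx.symm
    exact Subgroup.mem_bot.mpr (conj_eq_one_iff.mp h1)
  · intro a ha _
    rw [hn]
    exact ⟨⟨_, hmove a ha⟩, trivial, rfl⟩
  · intro i a ha hsa hi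
    obtain ⟨⟨b, hb⟩, hbi, hbe⟩ := hi
    replace hbe : b = t * a * t⁻¹ := hbe
    subst hbe
    have hga : g * a * g⁻¹ ∈ Q := by
      have h1 := (Subgroup.mem_set_normalizer_iff.mp hg a).mp ha
      exact h1
    have h2 : (t * g * t⁻¹) * (t * a * t⁻¹) * (t * g * t⁻¹)⁻¹ = t * (g * a * g⁻¹) * t⁻¹ := by group
    obtain ⟨u, hu, hue⟩ := h _ hb (conj_smallElt t hsa) (t * g * t⁻¹) (by rw [h2]; exact hmove _ hga)
    rw [h2] at hue
    have h3 := Subgroup.mem_upperCentralSeries_succ_iff.mp ((Subgroup.upperCentralSeries _ (i+1)).inv_mem hbi) ⟨u, hu⟩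
    refine ⟨_, h3, ?_⟩
    show (t * a * t⁻¹)⁻¹ * u * ((t * a * t⁻¹)⁻¹)⁻¹ * u⁻¹ = t * (a⁻¹ * (g * a * g⁻¹)) * t⁻¹
    calc (t * a * t⁻¹)⁻¹ * u * ((t * a * t⁻¹)⁻¹)⁻¹ * u⁻¹
        = (t * a * t⁻¹)⁻¹ * (u * (t * a * t⁻¹) * u⁻¹) := by group
      _ = t * (a⁻¹ * (g * a * g⁻¹)) * t⁻¹ := by rw [← hue]; group

end CfsgLib.PushUp
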